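import Mathlib
import Cfsg.Prelude.Def_HallClasses

/-!
# Hall subgroups of symmetric groups (P. Hall 1956 / Thompson 1966): definitions

`Cls π n` is the classification predicate: either `(n, π)` is *trivial* (at most one prime of `π`
is `≤ n`, or every prime `≤ n` is in `π`), or `n` is prime and the primes of `π` up to `n` are
exactly the primes `< n`, or `n ∈ {7, 8}` and the primes of `π` up to `n` are exactly `2, 3`.
The main theorem (`Cfsg.Agent.Lib.Helper06.HallSym.cls_of_hall`, file `Main.lean`) says that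
if `Sym(α)` has a Hall `π`-subgroup then `Cls π |α|`.
-/

namespace Cfsg.Agent.Lib.Helper06.HallSym

/-- `(n, π)` is trivial: at most one prime of `π` is `≤ n`, or all primes `≤ n` are in `π`. -/
def Triv (π : Set ℕ) (n : ℕ) : Prop :=
  (∀ r s : ℕ, r.Prime → s.Prime → r ≤ n → s ≤ n → r ∈ π → s ∈ π → r = s) ∨
    (∀ r : ℕ, r.Prime → r ≤ n → r ∈ π)

/-- `n` is prime and the primes of `π` up to `n` are exactly the primes `< n`. -/
def TypeA (π : Set ℕ) (n : ℕ) : Prop :=
  n.Prime ∧ ∀ r : ℕ, r.Prime → r ≤ n → (r ∈ π ↔ r < n)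

/-- `n ∈ {7, 8}` and the primes of `π` up to `n` are exactly `2` and `3`. -/
def TypeB (π : Set ℕ) (n : ℕ) : Prop :=
  (n = 7 ∨ n = 8) ∧ ∀ r : ℕ, r.Prime → r ≤ n → (r ∈ π ↔ (r = 2 ∨ r = 3))

/-- The classification predicate for Hall `π`-subgroups of `Sym(n)`. -/
def Cls (π : Set ℕ) (n : ℕ) : Prop := Triv π n ∨ TypeA π n ∨ TypeB π n

end Cfsg.Agent.Lib.Helper06.HallSym
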