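import Mathlib
import Cfsg.Prelude.Def_HallClasses
import Cfsg.Agent.Lib.Helper06.HallSym.Defs

set_option autoImplicit false
open Cfsg
open scoped Pointwise

namespace Cfsg.Agent.Lib.Helper06.HallSym

/-- the bundle of keystone facts used by the induction -/
structure Keys : Prop where
  nt2 : ∀ a b : ℕ, 1 ≤ a → a ≤ b → (∀ p : ℕ, p.Prime → p ≤ b → ¬ p ∣ Nat.choose (a + b) a) →
      (a = 1 ∧ (b + 1).Prime) ∨ (a = 3 ∧ b = 4)
  intr : ∀ (π : Set ℕ) (a b : ℕ), 1 ≤ a → 1 ≤ b → Cls π a → Cls π b →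
    (∀ p : ℕ, p.Prime → p ∈ π → ¬ p ∣ Nat.choose (a + b) a) →
    (∀ p : ℕ, p.Prime → p ∣ a → p ∈ π) → Cls π (a + b)
  impr : ∀ (π : Set ℕ) (a b : ℕ), 2 ≤ a → 2 ≤ b → Cls π (a * b - a) →
    (∀ p : ℕ, p.Prime → p ∣ a * b → p ∈ π) →
    (∀ p : ℕ, p.Prime → p ∈ π → ¬ p ∣ Nat.choose (a * b - 1) (a - 1)) →
    (∀ p : ℕ, p.Prime → p ∈ π → p ≤ a * b → p ≤ a) → Cls π (a * b)
  cyc : ∀ (π : Set ℕ) {α : Type} [Finite α] (H : Subgroup (Equiv.Perm α)), IsPiHall π H →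
      ∀ p : ℕ, p.Prime → p ∈ π → p ≤ Nat.card α → ∃ g ∈ H, g.IsCycle ∧ {x | g x ≠ x}.ncard = p
  prim : ∀ (π : Set ℕ) {α : Type} [Finite α] (H : Subgroup (Equiv.Perm α)),
    IsPiHall π H → MulAction.IsPreprimitive ↥H α →
    ∀ p q : ℕ, p.Prime → q.Prime → p ≠ q → p ∈ π → q ∈ π → p ≤ Nat.card α → q ≤ Nat.card α →
    ∀ r : ℕ, r.Prime → r ≤ Nat.card α → r ∈ π
  intrans : ∀ (π : Set ℕ) {α : Type} [Finite α] (H : Subgroup (Equiv.Perm α)), IsPiHall π H → ∀ x : α,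
    IsEPiGroup π (Equiv.Perm ↥(MulAction.orbit ↥H x)) ∧
    IsEPiGroup π (Equiv.Perm ↥((MulAction.orbit ↥H x)ᶜ : Set α)) ∧
    (∀ p : ℕ, p.Prime → p ∈ π → ¬ p ∣ Nat.choose (Nat.card α) (MulAction.orbit ↥H x).ncard) ∧
    (∀ p : ℕ, p.Prime → p ∣ (MulAction.orbit ↥H x).ncard → p ∈ π)
  block : ∀ (π : Set ℕ) {α : Type} [Finite α] (H : Subgroup (Equiv.Perm α)),
    IsPiHall π H → MulAction.IsPretransitive ↥H α → ∀ B : Set α,
    MulAction.IsBlock ↥H B → 1 < B.ncard → B.ncard < Nat.card α →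
    ∃ b : ℕ, 2 ≤ b ∧ B.ncard * b = Nat.card α ∧
      IsEPiGroup π (Equiv.Perm ↥(Bᶜ : Set α)) ∧
      (∀ p : ℕ, p.Prime → p ∣ Nat.card α → p ∈ π) ∧
      (∀ p : ℕ, p.Prime → p ∈ π → ¬ p ∣ Nat.choose (Nat.card α - 1) (B.ncard - 1))
  cycblock : ∀ {α : Type} [Finite α] (H : Subgroup (Equiv.Perm α)),
    MulAction.IsPretransitive ↥H α → ∀ B : Set α, MulAction.IsBlock ↥H B →
    1 < B.ncard → ∀ g : Equiv.Perm α, g ∈ H → g.IsCycle → ∀ p : ℕ, p.Prime →
    {x | g x ≠ x}.ncard = p → p ≤ B.ncard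

/-- The induction: if `Sym(α)` has a Hall `π`-subgroup then `Cls π |α|`. -/
theorem cls_of_hall_aux (K : Keys) : ∀ (N : ℕ) (α : Type) [Finite α], Nat.card α = N →
    ∀ π : Set ℕ, IsEPiGroup π (Equiv.Perm α) → Cls π N := by
  intro N
  induction N using Nat.strong_induction_on with
  | _ N ih =>
  intro α _ hN π hE
  by_cases hT : Triv π N
  · exact Or.inl hT
  -- non-trivial: two distinct primes of π up to N
  have h2 : ∃ p q : ℕ, p.Prime ∧ q.Prime ∧ p ≠ q ∧ p ∈ π ∧ q ∈ π ∧ p ≤ N ∧ q ≤ N := by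
    by_contra hcon
    apply hT
    left
    intro r s hr hs hrN hsN hrπ hsπ
    by_contra hne
    exact hcon ⟨r, s, hr, hs, hne, hrπ, hsπ, hrN, hsN⟩
  obtain ⟨p, q, hp, hq, hpq, hpπ, hqπ, hpN, hqN⟩ := h2
  obtain ⟨H, hH⟩ := hE
  have hN2 : 2 ≤ N := le_trans hp.two_le hpN
  have hne : Nonempty α := by
    rw [← Nat.card_pos_iff.trans ⟨fun h => h.1, fun h => ⟨h, inferInstance⟩⟩]
    omega
  by_cases htr : MulAction.IsPretransitive ↥H α
  · -- transitive
    by_cases hprim : MulAction.IsPreprimitive ↥H α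
    · exfalso
      apply hT
      right
      intro r hr hrN
      exact K.prim π H hH hprim p q hp hq hpq hpπ hqπ (hN ▸ hpN) (hN ▸ hqN) r hr (hN ▸ hrN)
    · -- imprimitive: a nontrivial block
      have hex : ∃ B : Set α, MulAction.IsBlock ↥H B ∧ ¬ MulAction.IsTrivialBlock B := by
        by_contra hcon
        apply hprim
        refine { toIsPretransitive := htr, isTrivialBlock_of_isBlock := ?_ }
        intro B hB
        by_contra hnt
        exact hcon ⟨B, hB, hnt⟩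
      obtain ⟨B, hB, hBnt⟩ := hex
      have hBns : ¬ B.Subsingleton := fun h => hBnt (Or.inl h)
      have hBnu : B ≠ Set.univ := fun h => hBnt (Or.inr h)
      have h1 : 1 < B.ncard := by
        rw [Set.one_lt_ncard_iff (Set.toFinite B)]
        rw [Set.not_subsingleton_iff] at hBns
        obtain ⟨a, ha, b, hb, hab⟩ := hBns
        exact ⟨a, b, ha, hb, hab⟩
      have h2' : B.ncard < Nat.card α := by
        rw [← Set.ncard_univ]
        apply Set.ncard_lt_ncard _ (Set.toFinite _)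
        exact Set.ssubset_univ_iff.mpr hBnu
      obtain ⟨b, hb2, hab, hEc, hnπ, hch⟩ := K.block π H hH htr B hB h1 h2'
      set a := B.ncard with ha
      have hcard_c : Nat.card ↥(Bᶜ : Set α) = a * b - a := by
        rw [Nat.card_coe_set_eq, Set.ncard_compl B (Set.toFinite B), ← hab]
      have hlt : a * b - a < N := by
        rw [← hN, ← hab]; omega
      have hCc : Cls π (a * b - a) := ih (a * b - a) hlt ↥(Bᶜ : Set α) hcard_c π hEc
      have hle : ∀ p : ℕ, p.Prime → p ∈ π → p ≤ a * b → p ≤ a := by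
        intro r hr hrπ hrab
        obtain ⟨g, hgH, hgc, hgr⟩ := K.cyc π H hH r hr hrπ (hab ▸ hrab)
        exact K.cycblock H htr B hB h1 g hgH hgc r hr hgr
      have := K.impr π a b (by omega) hb2 hCc (fun r hr hrd => hnπ r hr (hab ▸ hrd))
        (fun r hr hrπ => by rw [hab]; exact hch r hr hrπ) hle
      rw [hab, hN] at this
      exact this
  · -- intransitive
    obtain ⟨x⟩ := hne
    obtain ⟨hEa, hEb, hch, haπ⟩ := K.intrans π H hH x
    set Δ : Set α := MulAction.orbit ↥H x with hΔ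
    have hxΔ : x ∈ Δ := MulAction.mem_orbit_self x
    have ha1 : 1 ≤ Δ.ncard := by
      rw [Nat.one_le_iff_ne_zero, Ne, Set.ncard_eq_zero (Set.toFinite Δ)]
      exact Set.nonempty_iff_ne_empty.mp ⟨x, hxΔ⟩
    have hΔu : Δ ≠ Set.univ := by
      intro h
      apply htr
      refine ⟨fun y z => ?_⟩
      have hy : y ∈ Δ := h ▸ Set.mem_univ y
      have hz : z ∈ Δ := h ▸ Set.mem_univ z
      rw [hΔ] at hy hz
      obtain ⟨g1, hg1⟩ := hy
      obtain ⟨g2, hg2⟩ := hz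
      refine ⟨g2 * g1⁻¹, ?_⟩
      rw [← hg1, ← hg2, mul_smul, inv_smul_smul]
    have haN : Δ.ncard < Nat.card α := by
      rw [← Set.ncard_univ]
      exact Set.ncard_lt_ncard (Set.ssubset_univ_iff.mpr hΔu) (Set.toFinite _)
    have hca : Nat.card ↥Δ = Δ.ncard := Nat.card_coe_set_eq Δ
    have hcb : Nat.card ↥(Δᶜ : Set α) = Nat.card α - Δ.ncard := by
      rw [Nat.card_coe_set_eq, Set.ncard_compl Δ (Set.toFinite Δ)]
    have hCa : Cls π Δ.ncard := ih Δ.ncard (hN ▸ haN) ↥Δ hca π hEa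
    have hCb : Cls π (Nat.card α - Δ.ncard) :=
      ih (Nat.card α - Δ.ncard) (by omega) ↥(Δᶜ : Set α) hcb π hEb
    have hsum : Δ.ncard + (Nat.card α - Δ.ncard) = Nat.card α := by omega
    have := K.intr π Δ.ncard (Nat.card α - Δ.ncard) ha1 (by omega) hCa hCb
      (fun r hr hrπ => by rw [hsum]; exact hch r hr hrπ) haπ
    rw [hsum, hN] at this
    exact this

end Cfsg.Agent.Lib.Helper06.HallSym
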