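/-
Hall's theorem on Hall subgroups of symmetric groups: assembly of the keystones.
Architecture by helper6; keystones by helper26 (N1), helper28 (N2), helper63 (N3), helper20 (G1),
helper42 (G2), helper93 (G3), helper32 (G4), helper41 (G5), helper62 (G6a), helper48 (G6b).
-/
import Cfsg.Agent.Lib.Helper06.HallSym.Main
import Cfsg.Agent.Lib.Helper26.HallSymN1
import Cfsg.Agent.Lib.Helper28.HallSymN2
import Cfsg.Agent.Lib.Helper63.HallSymN3
import Cfsg.Agent.Lib.Helper20.HallSymG1
import Cfsg.Agent.Lib.Helper42.HallSymG2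
import Cfsg.Agent.Lib.Helper93.HallSymG3
import Cfsg.Agent.Lib.Helper32.HallSymG4
import Cfsg.Agent.Lib.Helper41.HallSymG5
import Cfsg.Agent.Lib.Helper62.HallSymG6a
import Cfsg.Agent.Lib.Helper48.HallSymG6b

set_option autoImplicit false
set_option linter.unusedVariables false
open Cfsg

namespace Cfsg.Agent.Lib.Helper06.HallSym

theorem keys : Keys where
  nt2 := Cfsg.Agent.Lib.Helper26.HallSym.nt2
  intr := Cfsg.Agent.Lib.Helper28.HallSym.intr_arith Cfsg.Agent.Lib.Helper26.HallSym.nt2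
  impr := Cfsg.Agent.Lib.Helper63.HallSym.impr_arith Cfsg.Agent.Lib.Helper26.HallSym.nt2
  cyc := fun π {α} _ H hH p hp hpπ hpn =>
    Cfsg.Agent.Lib.Helper93.HallSym.exists_cycle_mem_of_hall π H hH p hp hpπ hpn
  prim := fun π {α} _ H hH hprim p q hp hq hpq hpπ hqπ hpn hqn =>
    Cfsg.Agent.Lib.Helper32.HallSym.triv_of_primitive
      (fun π {α} _ H hH p hp hpπ hpn =>
        Cfsg.Agent.Lib.Helper93.HallSym.exists_cycle_mem_of_hall π H hH p hp hpπ hpn)
      π H hH hprim p q hp hq hpq hpπ hqπ hpn hqn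
  intrans := fun π {α} _ H hH x =>
    Cfsg.Agent.Lib.Helper41.HallSym.intrans_step
      (fun {α} _ Δ => Cfsg.Agent.Lib.Helper20.HallSym.card_stabilizer_set Δ)
      (fun π {α} _ K Δ hK hπ hval => Cfsg.Agent.Lib.Helper42.HallSym.young_hall π K Δ hK hπ hval) π H hH x
  block := fun π {α} _ H hH htr B hB h1 h2 =>
    Cfsg.Agent.Lib.Helper62.HallSym.block_step
      (fun {α} _ Δ => Cfsg.Agent.Lib.Helper20.HallSym.card_stabilizer_set Δ)
      (fun π {α} _ K Δ hK hπ hval => Cfsg.Agent.Lib.Helper42.HallSym.young_hall π K Δ hK hπ hval)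
      π H hH htr B hB h1 h2
  cycblock := fun {α} _ H htr B hB h1 g hg hc p hp hgp =>
    Cfsg.Agent.Lib.Helper48.HallSym.cycle_le_block H htr B hB h1 g hg hc p hp hgp

/-- **Hall (necessity).** If `Sym(α)` has a Hall `π`-subgroup, then `π` is of class
`Triv`, `TypeA` or `TypeB` with respect to `|α|`. -/
theorem cls_of_hall {α : Type} [Finite α] (π : Set ℕ) (hE : IsEPiGroup π (Equiv.Perm α)) :
    Cls π (Nat.card α) :=
  cls_of_hall_aux keys (Nat.card α) α rfl π hE

end Cfsg.Agent.Lib.Helper06.HallSym
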